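import Groth.Agent.RRVanLib.GG
import Groth.Agent.SurfNumLib.IdealMul
import Groth.Agent.SurfNumLib.Eff
import Groth.Agent.CurvLib.Finite0
import Groth.Agent.CurvLib.StalkSum
import Groth.Agent.SurfAmpleLib.QuotSeq
import Groth.Agent.SerreVanLib.Converse
import Groth.Agent.HodgeIdxLib.Light

/-!
# First cohomology of a module generated at one point, twisted by a module without first cohomology
-/

set_option autoImplicit false
set_option linter.style.haveILetI false
set_option backward.isDefEq.respectTransparency false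
set_option backward.isDefEq.respectTransparency.types false
set_option maxHeartbeats 1000000

universe u

open CategoryTheory CategoryTheory.Limits AlgebraicGeometry TopologicalSpace Opposite
open DevissLib
open AmpleLib (shT)
open scoped TensorProduct MonoidalCategory
open MonoidalCategory

noncomputable section

namespace FreeSecLib

variable {k : Type u} [Field k] {X : Scheme.{u}} [X.Over (Spec (CommRingCat.of k))]
  [IsProper (X ↘ Spec (CommRingCat.of k))] [IsIntegral X] (hdim : topologicalKrullDim X = 1)

variable (k) in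
include hdim k in
/-- Killing one map at a time. -/
theorem subsingleton_h1_of_gen {L : X.Modules} (hL : Coh.IsCoh L) (hL1 : Subsingleton (Coh.HH X L 1)) (x : X) :
    ∀ (n : ℕ) (F : X.Modules), Coh.IsCoh F → ∀ gs : Fin n → (L ⟶ F),
      (∀ (G : X.Modules) (ψ : F ⟶ G), (∀ i, gs i ≫ ψ = 0) → ∀ a, (St x).map ψ a = 0) →
        Subsingleton (Coh.HH X F 1) := by
  haveI := CurvLib.isNoetherian k (X := X)
  intro n
  induction n with
  | zero =>
    intro F hF gs h
    have hx : x ∉ CohB1.support F := fun hx => hx (subsingleton_of_forall_eq 0 fun a => by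
      have h' := h F (𝟙 F) (fun i => i.elim0) a
      rwa [CategoryTheory.Functor.map_id] at h')
    exact CurvLib.subsingleton_HH_of_support F (QCohLib.isClosed_support F hF.2) subset_rfl (d := 0)
      (by exact_mod_cast CurvLib.topologicalKrullDim_le_zero_of_lt hdim (QCohLib.isClosed_support F hF.2) fun h => hx (h ▸ Set.mem_univ x)) 1 Nat.one_pos
  | succ n ih =>
    intro F hF gs h
    let g := gs 0
    let K : X.Modules := Abelian.image g
    let e : L ⟶ K := Abelian.factorThruImage g
    have hC : Coh.IsCoh (cokernel g) := QCohLib.isCoh_cokernel g hL.1 hF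
    have hK : Coh.IsCoh K := QCohLib.isCoh_kernel _ hF hC.1
    let S₁ : ShortComplex X.Modules := ShortComplex.mk (kernel.ι e) e (kernel.condition _)
    have hS₁ : S₁.ShortExact :=
      { exact := ShortComplex.exact_of_f_is_kernel _ (kernelIsKernel _)
        mono_f := inferInstanceAs (Mono (kernel.ι e))
        epi_g := inferInstanceAs (Epi e) }
    have hK1 : Subsingleton (Coh.HH X K 1) := by
      refine subsingleton_of_forall_eq 0 fun y => ?_
      haveI : Subsingleton (Coh.HH X S₁.X₁ (1 + 1)) := CurvLib.h_vanish_of_two_le (k := k) hdim _ _ le_rfl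
      have hy : y ∈ LinearMap.range (CurvLib.hMap (k := k) S₁.g 1) := by
        rw [CurvLib.exact₃ (k := k) hS₁ 1, LinearMap.mem_ker]
        exact Subsingleton.elim _ _
      obtain ⟨z, rfl⟩ := hy
      rw [@Subsingleton.elim _ hL1 z 0, map_zero]
    let S₂ : ShortComplex X.Modules := ShortComplex.mk (kernel.ι (cokernel.π g)) (cokernel.π g) (kernel.condition _)
    have hS₂ : S₂.ShortExact :=
      { exact := ShortComplex.exact_of_f_is_kernel _ (kernelIsKernel _)
        mono_f := inferInstanceAs (Mono (kernel.ι (cokernel.π g)))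
        epi_g := inferInstanceAs (Epi (cokernel.π g)) }
    have hC1 : Subsingleton (Coh.HH X (cokernel g) 1) := by
      refine ih (cokernel g) hC (fun i => gs i.succ ≫ cokernel.π g) fun G ψ hψ a => ?_
      haveI : Epi ((St x).map (cokernel.π g)) := inferInstance
      obtain ⟨b, rfl⟩ := (ModuleCat.epi_iff_surjective _).1 this a
      have h' := h G (cokernel.π g ≫ ψ) (fun i => by
        cases i using Fin.cases with
        | zero => rw [← Category.assoc, show gs 0 ≫ cokernel.π g = 0 from cokernel.condition g, zero_comp]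
        | succ j => rw [← Category.assoc]; exact hψ j) b
      rw [Functor.map_comp] at h'
      exact h'
    refine subsingleton_of_forall_eq 0 fun y => ?_
    have hy : y ∈ LinearMap.range (CurvLib.hMap (k := k) S₂.f 1) := by
      rw [CurvLib.exact₂ (k := k) hS₂ 1, LinearMap.mem_ker]
      exact @Subsingleton.elim _ hC1 _ _
    obtain ⟨z, rfl⟩ := hy
    rw [@Subsingleton.elim _ hK1 z 0, map_zero]

/-- The kernel of restriction to a closed subscheme through the point lies in the maximal submodule. -/
theorem mem_maximal_smul {n : ℕ} {T : X.Modules} (hT : FlatMod.IsFinLocFreeOfRank n T) {P : X.IdealSheafData} {x : X}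
    (hx : x ∈ P.support) (u : CohB1.tensorMod T (Coh.structureModule X) ⟶ T) [IsIso u]
    (hu : ∀ (V : X.Opens) (m : Γ(T, V)) (r : Γ(X, V)), u.app V (shT m r) = r • m)
    (t : (St x).obj T) (ht : (St x).map (inv u ≫ ((CurvLib.idealSeq P).map (CurvLib.tensorLeft' T)).g) t = 0) :
    t ∈ IsLocalRing.maximalIdeal (X.presheaf.stalk x) • (⊤ : Submodule (X.presheaf.stalk x) ((St x).obj T)) := by
  let S := (CurvLib.idealSeq P).map (CurvLib.tensorLeft' T)
  have hS : S.ShortExact := CurvLib.shortExact_tensor_locFree hT (CurvLib.idealSeq_shortExact P)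
  rw [Functor.map_comp] at ht
  have ht' : (St x).map S.g ((St x).map (inv u) t) = 0 := ht
  obtain ⟨z, hz⟩ := (ShortComplex.moduleCat_exact_iff _).1 (hS.map_of_exact (St x)).exact _ ht'
  have hz' : (St x).map S.f z = (St x).map (inv u) t := hz
  have hnu : ∀ (U : X.Opens) (hxU : x ∈ U) (c : Γ(ClSub.idealMod P, U)),
      ¬ IsUnit ((X.presheaf.germ U x hxU).hom ((ClSub.idealModι P).app U c)) := by
    intro U hxU c hc
    have hP : x ∈ CohB1.support (ClSub.quotMod P) := by rwa [SurfNumLib.support_quotMod_eq]
    have h0 : (ClSub.toSubscheme P).app U ((ClSub.idealModι P).app U c) = 0 :=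
      congrArg (fun φ : ClSub.idealMod P ⟶ ClSub.quotMod P => φ.app U c) (CurvLib.idealSeq P).zero
    refine hP (subsingleton_of_forall_eq 0 fun q => ?_)
    haveI := CurvLib.epi_toSubscheme P
    haveI : Epi ((St x).map (ClSub.toSubscheme P)) := inferInstance
    obtain ⟨r, rfl⟩ := (ModuleCat.epi_iff_surjective _).1 this q
    obtain ⟨V, hxV, a, rfl⟩ := DevissLib.exists_gm_eq (Coh.structureModule X) x r
    have h1 : (St x).map (ClSub.toSubscheme P) (gm (Coh.structureModule X) x hxU ((ClSub.idealModι P).app U c)) = 0 :=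
      (DevissLib.gm_app _ x hxU _).trans ((congrArg (gm (ClSub.quotMod P) x hxU) h0).trans (DevissLib.gm_zero _ _ hxU))
    let one : Γ(Coh.structureModule X, U) := (1 : Γ(X, U))
    have hu1 : gm (Coh.structureModule X) x hxU ((ClSub.idealModι P).app U c) =
        (X.presheaf.germ U x hxU).hom ((ClSub.idealModι P).app U c) • gm (Coh.structureModule X) x hxU one := by
      refine Eq.trans ?_ (DevissLib.gm_smul (Coh.structureModule X) x hxU _ one)
      exact congrArg (gm (Coh.structureModule X) x hxU) (mul_one (show Γ(X, U) from (ClSub.idealModι P).app U c)).symm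
    have hW : gm (Coh.structureModule X) x hxV a = (X.presheaf.germ V x hxV).hom a • gm (Coh.structureModule X) x hxU one := by
      let oneV : Γ(Coh.structureModule X, V) := (1 : Γ(X, V))
      have e : gm (Coh.structureModule X) x hxU one = gm (Coh.structureModule X) x hxV oneV := by
        let W := U ⊓ V
        have hxW : x ∈ W := ⟨hxU, hxV⟩
        rw [← DevissLib.gm_map (Coh.structureModule X) (inf_le_left : W ≤ U) x hxW, ← DevissLib.gm_map (Coh.structureModule X) (inf_le_right : W ≤ V) x hxW]
        exact congrArg (gm (Coh.structureModule X) x hxW) ((map_one (X.presheaf.map (homOfLE (inf_le_left : W ≤ U)).op).hom).trans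
          (map_one (X.presheaf.map (homOfLE (inf_le_right : W ≤ V)).op).hom).symm)
      rw [e]
      refine Eq.trans ?_ (DevissLib.gm_smul (Coh.structureModule X) x hxV _ oneV)
      exact congrArg (gm (Coh.structureModule X) x hxV) (mul_one (show Γ(X, V) from a)).symm
    have h2 : (St x).map (ClSub.toSubscheme P) (gm (Coh.structureModule X) x hxU one) = 0 := by
      rw [hu1, map_smul] at h1
      exact hc.smul_eq_zero.1 h1
    rw [hW, map_smul, h2, smul_zero]
  have key : ∀ v, (St x).map u ((St x).map S.f ((KFlatLib.stalkTensorIso T (ClSub.idealMod P) x).hom v)) ∈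
      IsLocalRing.maximalIdeal (X.presheaf.stalk x) • (⊤ : Submodule (X.presheaf.stalk x) ((St x).obj T)) := by
    intro v
    induction v using TensorProduct.induction_on with
    | zero => rw [map_zero, map_zero, map_zero]; exact zero_mem _
    | tmul a b =>
      obtain ⟨U, hxU, m, c, rfl, rfl⟩ := KFlatLib.exists_germ₂ x a b
      have h1 : (KFlatLib.stalkTensorIso T (ClSub.idealMod P) x).hom
          (T.presheaf.germ U x hxU m ⊗ₜ (ClSub.idealMod P).presheaf.germ U x hxU c) =
          gm (CohB1.tensorMod T (ClSub.idealMod P)) x hxU (shT m c) :=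
        KFlatLib.stalkTensorIso_hom_tmul T (ClSub.idealMod P) x hxU m c
      refine Set.mem_of_eq_of_mem (congrArg (fun w => (St x).map u ((St x).map S.f w)) h1) ?_
      refine Set.mem_of_eq_of_mem (Eq.trans (congrArg ((St x).map u) ((DevissLib.gm_app S.f x hxU (shT m c)).trans
        (congrArg (gm (CohB1.tensorMod T (Coh.structureModule X)) x hxU) (SurfAmpleLib.tmap_shT T (ClSub.idealModι P) U m c))))
        ((DevissLib.gm_app u x hxU _).trans ((congrArg (gm T x hxU) (hu U m _)).trans (DevissLib.gm_smul T x hxU _ m)))) ?_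
      exact Submodule.smul_mem_smul ((IsLocalRing.mem_maximalIdeal _).2 (hnu U hxU c)) trivial
    | add a b ha hb => rw [map_add, map_add, map_add]; exact add_mem ha hb
  have hz2 : (St x).map u ((St x).map S.f z) = t := by
    rw [hz']
    change ((St x).map (inv u) ≫ (St x).map u) t = t
    rw [← Functor.map_comp, IsIso.inv_hom_id, CategoryTheory.Functor.map_id]
    rfl
  rw [← hz2]
  obtain ⟨v, rfl⟩ : ∃ v, (KFlatLib.stalkTensorIso T (ClSub.idealMod P) x).hom v = z :=
    ⟨(KFlatLib.stalkTensorIso T (ClSub.idealMod P) x).inv z,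
      Iso.inv_hom_id_apply (KFlatLib.stalkTensorIso T (ClSub.idealMod P) x) z⟩
  exact key v

variable (k) in
include hdim k in
/-- A module whose sections reach the fibre at a closed point has no first cohomology after a twist without one. -/
theorem subsingleton_h1_tensor {L : X.Modules} (hL : PicF.IsInvertible L) (hL1 : Subsingleton (Coh.HH X L 1))
    {n : ℕ} {T : X.Modules} (hT : FlatMod.IsFinLocFreeOfRank n T) {P : X.IdealSheafData} {x : X}
    (hx : x ∈ P.support) (hPd : topologicalKrullDim (P.support : Set X) ≤ 0)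
    (hsurj : Function.Surjective (CurvLib.hMap (k := k) ((CurvLib.idealSeq P).map (CurvLib.tensorLeft' T)).g 0)) :
    Subsingleton (Coh.HH X (CohB1.tensorMod L T) 1) := by
  haveI := CurvLib.isNoetherian k (X := X)
  have hLc := CurvLib.isCoh_of_isInvertible hL
  have hTc := CurvLib.isCoh_of_locFree hT
  obtain ⟨u, hu, hu'⟩ := SerreVanLib.exists_unit_iso T
  haveI := hu
  obtain ⟨uL, huL, huL'⟩ := SerreVanLib.exists_unit_iso L
  haveI := huL
  haveI := CurvLib.finite_HH (k := k) hTc 0
  let b := Module.finBasis k (Coh.HH X T 0)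
  let σ : Fin (Module.finrank k (Coh.HH X T 0)) → Γ(T, ⊤) := fun i => DegPullLib.e0 T (b i)
  let R := X.presheaf.stalk x
  have hx' : x ∈ (⊤ : X.Opens) := trivial
  let Sp : Submodule R ((St x).obj T) := Submodule.span R (Set.range fun i => gm T x hx' (σ i))
  -- every global section lies in the span
  have hglob : ∀ s : Γ(T, ⊤), gm T x hx' s ∈ Sp := fun s => by
    obtain ⟨z, rfl⟩ := (DegPullLib.e0 T).surjective s
    have hz : z ∈ Submodule.span k (Set.range b) := b.span_eq.ge trivial
    induction hz using Submodule.span_induction with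
    | mem y hy => obtain ⟨i, rfl⟩ := hy; exact Submodule.subset_span ⟨i, rfl⟩
    | zero => rw [map_zero, DevissLib.gm_zero]; exact zero_mem _
    | add y y' _ _ hy hy' =>
      rw [map_add]
      exact Set.mem_of_eq_of_mem (map_add (T.presheaf.germ ⊤ x hx').hom _ _) (add_mem hy hy')
    | smul c y _ hy =>
      refine Set.mem_of_eq_of_mem (congrArg (gm T x hx') (DegPullLib.e0_smul T (Coh.toGlobal (X ↘ Spec (CommRingCat.of k)) c) y)) ?_
      exact Set.mem_of_eq_of_mem (DevissLib.gm_smul T x hx' _ _) (Submodule.smul_mem _ _ hy)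
  -- Nakayama
  have htop : Sp = ⊤ := by
    haveI : Module.Finite R ((St x).obj T) := Module.Finite.equiv (CurvLib.nonempty_stalk_pi_of_locFree hT x).some.symm
    refine eq_top_iff.2 (Submodule.le_of_le_smul_of_le_jacobson_bot (I := IsLocalRing.maximalIdeal R) Module.Finite.fg_top
      (IsLocalRing.maximalIdeal_le_jacobson _) fun t _ => ?_)
    let g := inv u ≫ ((CurvLib.idealSeq P).map (CurvLib.tensorLeft' T)).g
    let Q := ((CurvLib.idealSeq P).map (CurvLib.tensorLeft' T)).X₃
    obtain ⟨hQT, hQTc⟩ : (P.support : Set X).Finite ∧ ∀ y ∈ (P.support : Set X), IsClosed ({y} : Set X) :=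
      CurvLib.finite_isClosed_of_dim_le_zero P.support.isClosed hPd
    have hQs : CohB1.support Q ⊆ (P.support : Set X) := fun y hy => by
      rw [← SurfNumLib.support_quotMod_eq]
      by_contra h
      obtain ⟨e⟩ := CurvLib.nonempty_stalk_tensor_locFree hT (ClSub.quotMod P) y
      haveI : Subsingleton ((St y).obj (ClSub.quotMod P)) := not_not.mp h
      let sw : Q ≅ CohB1.tensorMod (ClSub.quotMod P) T := KFlatLib.tensSwap (ClSub.quotMod P) T
      exact hy (((St y).mapIso sw).toLinearEquiv.toEquiv.trans e.toEquiv).subsingleton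
    obtain ⟨q, hq⟩ := CurvLib.surjective_germ_of_finite_support Q hQT hQTc hQs x ((St x).map g t)
    obtain ⟨z, hz⟩ := hsurj ((DegPullLib.e0 Q).symm q)
    let w : Γ(T, ⊤) := u.app ⊤ (DegPullLib.e0 _ z)
    have hgw : g.app ⊤ w = q := by
      have h1 : (inv u).app ⊤ w = DegPullLib.e0 _ z :=
        congrArg (fun φ : CohB1.tensorMod T (Coh.structureModule X) ⟶ _ => φ.app ⊤ (DegPullLib.e0 _ z)) (IsIso.hom_inv_id u)
      change ((CurvLib.idealSeq P).map (CurvLib.tensorLeft' T)).g.app ⊤ ((inv u).app ⊤ w) = q
      rw [h1]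
      exact ((RRVanLib.e0_map (k := k) _ z).symm.trans (congrArg (DegPullLib.e0 Q) hz)).trans (AddEquiv.apply_symm_apply _ q)
    have hgt : (St x).map g (t - gm T x hx' w) = 0 := by
      rw [map_sub, sub_eq_zero]
      exact ((DevissLib.gm_app g x hx' w).trans ((congrArg (gm Q x hx') hgw).trans hq)).symm
    have hmem := FreeSecLib.mem_maximal_smul hT hx u hu' (t - gm T x hx' w) hgt
    rw [← sub_add_cancel t (gm T x hx' w)]
    exact add_mem (Submodule.mem_sup_right hmem) (Submodule.mem_sup_left (hglob w))
  refine subsingleton_h1_of_gen k hdim hLc hL1 x _ (CohB1.tensorMod L T) (HilbPolyLib.isCoh_tensor hL hTc)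
    (fun i => inv uL ≫ SurfAmpleLib.tmap L (QCohLib.unitHom T (σ i))) fun G ψ hψ a => ?_
  obtain ⟨v, rfl⟩ : ∃ v, (KFlatLib.stalkTensorIso L T x).hom v = a :=
    ⟨(KFlatLib.stalkTensorIso L T x).inv a, Iso.inv_hom_id_apply (KFlatLib.stalkTensorIso L T x) a⟩
  induction v using TensorProduct.induction_on with
  | zero => rw [map_zero, map_zero]
  | add v v' hv hv' => rw [map_add, map_add, hv, hv', add_zero]
  | tmul l t =>
    let Φ : (St x).obj T →ₗ[R] (St x).obj G :=
      ((St x).map ψ).hom.comp ((KFlatLib.stalkTensorIso L T x).hom.hom.comp (TensorProduct.mk R ((St x).obj L) ((St x).obj T) l))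
    have hker : Sp ≤ LinearMap.ker Φ := by
      rw [Submodule.span_le]
      rintro _ ⟨i, rfl⟩
      obtain ⟨U, hxU, m, rfl⟩ := DevissLib.exists_gm_eq L x l
      have h1 : gm T x hx' (σ i) = gm T x hxU (T.presheaf.map (homOfLE le_top).op (σ i)) :=
        (DevissLib.gm_map T (le_top : U ≤ ⊤) x hxU (σ i)).symm
      change (St x).map ψ ((KFlatLib.stalkTensorIso L T x).hom (gm L x hxU m ⊗ₜ gm T x hx' (σ i))) = 0
      rw [h1]
      refine (congrArg ((St x).map ψ) (KFlatLib.stalkTensorIso_hom_tmul L T x hxU m _)).trans ?_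
      refine (DevissLib.gm_app ψ x hxU _).trans ?_
      have h2 : (inv uL).app U m = shT m (1 : Γ(X, U)) := by
        have e1 : uL.app U (shT m (1 : Γ(X, U))) = m := (huL' U m 1).trans (one_smul _ _)
        conv_lhs => rw [← e1]
        exact congrArg (fun φ : CohB1.tensorMod L (Coh.structureModule X) ⟶ _ => φ.app U (shT m (1 : Γ(X, U)))) (IsIso.hom_inv_id uL)
      have h3 : (inv uL ≫ SurfAmpleLib.tmap L (QCohLib.unitHom T (σ i))).app U m =
          shT m (T.presheaf.map (homOfLE le_top).op (σ i)) := by
        refine (congrArg ((SurfAmpleLib.tmap L (QCohLib.unitHom T (σ i))).app U) h2).trans ?_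
        rw [SurfAmpleLib.tmap_shT]
        refine congrArg (shT m) ?_
        rw [QCohLib.unitHom_app, one_smul]
      have h4 := congrArg (fun φ : L ⟶ G => φ.app U m) (hψ i)
      refine (congrArg (gm G x hxU) ((congrArg (ψ.app U) h3.symm).trans h4)).trans ?_
      exact DevissLib.gm_zero _ _ hxU
    exact LinearMap.mem_ker.1 (hker (htop.ge (Submodule.mem_top (x := t))))

omit [IsProper (X ↘ Spec (CommRingCat.of k))] [IsIntegral X] in
variable (k) in
/-- Surjectivity on sections is injectivity on first cohomology. -/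
theorem injective_one_iff {S : ShortComplex X.Modules} (hS : S.ShortExact) :
    Function.Injective (CurvLib.hMap (k := k) S.f 1) ↔ Function.Surjective (CurvLib.hMap (k := k) S.g 0) := by
  rw [← LinearMap.ker_eq_bot, ← LinearMap.range_eq_top, ← CurvLib.exact₁ (k := k) hS 0, LinearMap.range_eq_bot,
    CurvLib.exact₃ (k := k) hS 0]
  exact LinearMap.ker_eq_top.symm

omit [IsProper (X ↘ Spec (CommRingCat.of k))] [IsIntegral X] in
variable (k) in
/-- Surjectivity on sections, in terms of abelian sheaves. -/
theorem surjective_hMap {A B : X.Modules} (g : A ⟶ B)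
    (h : Function.Surjective (Sheaf.H.map ((SheafOfModules.toSheaf X.ringCatSheaf).map g) 0)) :
    Function.Surjective (CurvLib.hMap (k := k) g 0) := fun q => by
  obtain ⟨z, hz⟩ := h q
  exact ⟨z, hz⟩

omit [IsProper (X ↘ Spec (CommRingCat.of k))] [IsIntegral X] in
variable (k) in
/-- The restriction map of a twist. -/
theorem surjective_restrict (T : X.Modules) (Z : X.IdealSheafData)
    (h : Function.Surjective (CurvLib.hMap (k := k) ((CohB1.sheafifyMod X).map (CohB1.toPMod T ◁ (ClSub.toSubscheme Z).val) :
        CohB1.tensorMod T (Coh.structureModule X) ⟶ CohB1.tensorMod T (ClSub.quotMod Z)) 0)) :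
    Function.Surjective (CurvLib.hMap (k := k) ((CurvLib.idealSeq Z).map (CurvLib.tensorLeft' T)).g 0) := by
  exact h

omit [IsIntegral X] in
variable (k) in
/-- A surjection onto a space of at least the same dimension is injective. -/
theorem injective_hMap_of_le {A B : X.Modules} (hA : Coh.IsCoh A) (hB : Coh.IsCoh B) (g : A ⟶ B) (p : ℕ)
    (hs : Function.Surjective (CurvLib.hMap (k := k) g p))
    (hle : Module.finrank k (Coh.HH X A p) ≤ Module.finrank k (Coh.HH X B p)) :
    Function.Injective (CurvLib.hMap (k := k) g p) := by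
  haveI := CurvLib.finite_HH (k := k) hA p
  haveI := CurvLib.finite_HH (k := k) hB p
  have := LinearMap.finrank_le_finrank_of_surjective hs
  exact (LinearMap.injective_iff_surjective_of_finrank_eq_finrank (by omega)).2 hs

omit [IsIntegral X] in
variable (k) in
/-- The dimension count along three restriction sequences. -/
theorem surjective_of_chain {SP SD SD' : ShortComplex X.Modules} (hSP : SP.ShortExact) (hSD : SD.ShortExact)
    (hP1 : Coh.IsCoh SP.X₁) (hP2 : Coh.IsCoh SP.X₂) (hD2 : Coh.IsCoh SD.X₂) (hD'1 : Coh.IsCoh SD'.X₁)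
    (e₁ : SP.X₁ ≅ SD.X₁) (e₂ : SP.X₂ ≅ SD'.X₁) (e₃ : SD.X₂ ≅ SD'.X₂)
    (hD : Function.Surjective (CurvLib.hMap (k := k) SD.g 0))
    (hD' : Function.Surjective (CurvLib.hMap (k := k) SD'.f 1))
    (hP : Function.Surjective (CurvLib.hMap (k := k) SP.f 1)) :
    Function.Surjective (CurvLib.hMap (k := k) SP.g 0) := by
  haveI := CurvLib.finite_HH (k := k) hD2 1
  haveI := CurvLib.finite_HH (k := k) hD'1 1
  have a1 := LinearMap.finrank_le_finrank_of_surjective hD'
  have a3 := LinearMap.finrank_le_finrank_of_injective ((injective_one_iff k hSD).2 hD)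
  have a4 := (CurvLib.hIso (k := k) e₁ 1).finrank_eq
  have a5 := (CurvLib.hIso (k := k) e₂ 1).finrank_eq
  have a6 := (CurvLib.hIso (k := k) e₃ 1).finrank_eq
  exact (injective_one_iff k hSP).1 (injective_hMap_of_le k hP1 hP2 SP.f 1 hP (by omega))

end FreeSecLib

end
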